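import Groth.Agent.FinEtSheaf.Glue
import Mathlib.Algebra.Category.Grp.FilteredColimits

/-!
# Finite locally constant abelian sheaves as sheaves of sets
-/

set_option autoImplicit false

universe u

open CategoryTheory CategoryTheory.Limits AlgebraicGeometry Opposite

namespace Groth.Agent.FinEtSheaf

noncomputable section

set_option backward.isDefEq.respectTransparency false
set_option backward.isDefEq.respectTransparency.types false

variable {X : Scheme.{u}}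

/-- the underlying sheaf of sets -/
abbrev setSheaf (F : EtCoh.Ab X) : EtDesc.Sh X :=
  ⟨F.obj ⋙ forget AddCommGrpCat.{u + 1},
    ((sheafCompose X.smallEtaleTopology (forget AddCommGrpCat.{u + 1})).obj F).property⟩

theorem exists_triv_setSheaf {F : EtCoh.Ab X} (hF : EtCoh.IsFiniteLocallyConstant F) :
    Nonempty (Triv (setSheaf F)) := by
  obtain ⟨ι, U, hU, h⟩ := hF
  choose M iM fM he using h
  choose φ hφ using fun i => EtFound.exists_constBy (he i).some
  choose n q using fun i => Finite.exists_equiv_fin (M i)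
  let ψ : ∀ i, ULift.{u + 1} (Fin (n i)) ⟶ (setSheaf F).obj.obj (op (U i)) := fun i =>
    TypeCat.ofHom fun k => φ i (ULift.up.{u + 1} ((q i).some.symm k.down))
  refine ⟨⟨ι, U, hU, n, ψ, fun i Ω _ _ ξ z => ?_⟩⟩
  let Φ := Scheme.pointSmallEtale ξ
  have hb : Function.Bijective fun k : ULift.{u + 1} (Fin (n i)) =>
      Φ.toPresheafFiber (U i) z F.obj (φ i (ULift.up.{u + 1} ((q i).some.symm k.down))) :=
    (hφ i Ω ξ z).comp (Equiv.ulift.symm.bijective.comp
      ((q i).some.symm.bijective.comp Equiv.ulift.bijective))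
  refine ⟨fun k k' hk => hb.1 ?_, fun p => ?_⟩
  · obtain ⟨V, g, v, hv, hg⟩ := (Φ.toPresheafFiber_eq_iff' (P := (setSheaf F).obj) (U i) z _ _).1 hk
    exact (Φ.toPresheafFiber_eq_iff' (P := F.obj) (U i) z _ _).2 ⟨V, g, v, hv, hg⟩
  · obtain ⟨V, v, s, rfl⟩ := Φ.toPresheafFiber_jointly_surjective (P := (setSheaf F).obj) p
    obtain ⟨k, hk⟩ := hb.2 (Φ.toPresheafFiber V v F.obj s)
    obtain ⟨⟨T, t⟩, ⟨a₀, ha₀⟩, ⟨b₀, hb₀⟩, -⟩ := IsCofilteredOrEmpty.cone_objs
      (Φ.fiber.elementsMk V v) (Φ.fiber.elementsMk (U i) z)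
    obtain ⟨a, ha⟩ : ∃ a : T ⟶ V, Φ.fiber.map a t = v := ⟨a₀, ha₀⟩
    obtain ⟨b, hb'⟩ : ∃ b : T ⟶ U i, Φ.fiber.map b t = z := ⟨b₀, hb₀⟩
    subst ha hb'
    have hk' : Φ.toPresheafFiber T t F.obj (F.obj.map b.op (φ i (ULift.up.{u + 1} ((q i).some.symm k.down)))) =
        Φ.toPresheafFiber T t F.obj (F.obj.map a.op s) :=
      (Φ.toPresheafFiber_w_apply b t F.obj _).trans (hk.trans (Φ.toPresheafFiber_w_apply a t F.obj _).symm)
    obtain ⟨W, g, w, hw, hg⟩ := (Φ.toPresheafFiber_eq_iff' (P := F.obj) T t _ _).1 hk'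
    refine ⟨k, ?_⟩
    refine (Φ.toPresheafFiber_w_apply b t (setSheaf F).obj (ψ i k)).symm.trans (Eq.trans ?_
      (Φ.toPresheafFiber_w_apply a t (setSheaf F).obj s))
    exact (Φ.toPresheafFiber_eq_iff' (P := (setSheaf F).obj) T t _ _).2 ⟨W, g, w, hw, hg⟩

theorem exists_natIso_of_finiteLocallyConstant {F : EtCoh.Ab X} (hF : EtCoh.IsFiniteLocallyConstant F) :
    ∃ (U : X.Etale) (_ : IsFinite U.hom),
      Nonempty (F.obj ⋙ forget AddCommGrpCat.{u + 1} ≅ yoneda.obj U ⋙ uliftFunctor.{u + 1}) := by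
  obtain ⟨t⟩ := exists_triv_setSheaf hF
  obtain ⟨U, hU, ⟨e⟩⟩ := exists_repSh_iso t
  exact ⟨U, hU, ⟨(sheafToPresheaf _ _).mapIso (e ≪≫ repShIso U)⟩⟩

end

end Groth.Agent.FinEtSheaf
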