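import Groth.Agent.FinEtSheaf.Transition
import Groth.Agent.S13131
import Groth.Agent.EtTopInvFull.Descent
import Groth.Agent.EtFound.Descent
import Groth.Agent.SGA1Q.SigmaFinite

/-!
# Finite locally constant sheaves of sets are represented by finite etale schemes
-/

set_option autoImplicit false

universe u

open CategoryTheory CategoryTheory.Limits AlgebraicGeometry Opposite

namespace Groth.Agent.FinEtSheaf

noncomputable section

set_option backward.isDefEq.respectTransparency false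
set_option backward.isDefEq.respectTransparency.types false

section copies

variable (S : Scheme.{u}) (M : Type u)

/-- the constant scheme -/
abbrev copies : CategoryTheory.Over S := CategoryTheory.Over.mk (Limits.Sigma.desc (fun _ : M => 𝟙 S))

/-- points of the constant scheme are locally constant functions -/
def liftsEquiv {T : Scheme.{u}} (x : T ⟶ S) : Desc.Lifts (copies S M) x ≃ LocallyConstant T M :=
  (Groth.Agent.S13131.result S M T x).choose

theorem liftsEquiv_spec {T : Scheme.{u}} (x : T ⟶ S) (v : Desc.Lifts (copies S M) x) (p : T) :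
    liftsEquiv S M x v p = ((sigmaMk (fun _ : M => S)).symm (v.1.base p)).1 :=
  (Groth.Agent.S13131.result S M T x).choose_spec v p

theorem liftsEquiv_natural {T T' : Scheme.{u}} (g : T' ⟶ T) (x : T ⟶ S) (y : T' ⟶ S)
    (v : Desc.Lifts (copies S M) x) (v' : Desc.Lifts (copies S M) y) (hv : v'.1 = g ≫ v.1) (p : T') :
    liftsEquiv S M y v' p = liftsEquiv S M x v (g.base p) := by
  rw [liftsEquiv_spec, liftsEquiv_spec, hv]
  exact congrArg (fun q => ((sigmaMk (fun _ : M => S)).symm q).1) (Scheme.Hom.comp_apply g v.1 p)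

/-- the lift through a copy -/
def copyLift {T : Scheme.{u}} (x : T ⟶ S) (m : M) : Desc.Lifts (copies S M) x :=
  ⟨x ≫ Sigma.ι (fun _ : M => S) m, (Category.assoc _ _ _).trans
    ((congrArg (x ≫ ·) (Limits.Sigma.ι_desc _ _)).trans (Category.comp_id x))⟩

theorem liftsEquiv_copyLift {T : Scheme.{u}} (x : T ⟶ S) (m : M) (p : T) :
    liftsEquiv S M x (copyLift S M x m) p = m := by
  rw [liftsEquiv_spec]
  show ((sigmaMk (fun _ : M => S)).symm ((x ≫ Sigma.ι (fun _ : M => S) m).base p)).1 = m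
  rw [Scheme.Hom.comp_apply, ← sigmaMk_mk, Homeomorph.symm_apply_apply]

theorem isFinite_copies [Finite M] : IsFinite (copies S M).hom := by
  exact SGA1Q.isFinite_sigmaDesc _ fun _ => inferInstance

theorem etale_copies : AlgebraicGeometry.Etale (copies S M).hom :=
  IsZariskiLocalAtSource.sigmaDesc fun _ => inferInstance

end copies

variable {X : Scheme.{u}} {F : EtDesc.Sh X} (t : Triv F)

/-- pointwise application of the transition maps -/
def Triv.act {T : Scheme.{u}} {i j : t.ι} (x₀ : T ⟶ (t.U i).left) (x₁ : T ⟶ (t.U j).left)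
    (h : x₀ ≫ (t.U i).hom = x₁ ≫ (t.U j).hom) :
    LocallyConstant T (ULift.{u} (Fin (t.n i))) ≃ LocallyConstant T (ULift.{u} (Fin (t.n j))) where
  toFun a := ⟨fun p => ULift.up (t.G x₀ x₁ h p (a p).down),
    (t.G x₀ x₁ h).isLocallyConstant.comp₂ a.isLocallyConstant fun e m => ULift.up (e m.down)⟩
  invFun b := ⟨fun p => ULift.up ((t.G x₀ x₁ h p).symm (b p).down),
    (t.G x₀ x₁ h).isLocallyConstant.comp₂ b.isLocallyConstant fun e m => ULift.up (e.symm m.down)⟩
  left_inv a := LocallyConstant.ext fun p => ULift.ext _ _ ((t.G x₀ x₁ h p).symm_apply_apply _)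
  right_inv b := LocallyConstant.ext fun p => ULift.ext _ _ ((t.G x₀ x₁ h p).apply_symm_apply _)

/-- the gluing bijection -/
def Triv.glue {T : Scheme.{u}} {i j : t.ι} (x₀ : T ⟶ (t.U i).left) (x₁ : T ⟶ (t.U j).left)
    (h : x₀ ≫ (t.U i).hom = x₁ ≫ (t.U j).hom) :
    Desc.Lifts (copies (t.U i).left (ULift.{u} (Fin (t.n i)))) x₀ ≃
      Desc.Lifts (copies (t.U j).left (ULift.{u} (Fin (t.n j)))) x₁ :=
  (liftsEquiv _ _ x₀).trans ((t.act x₀ x₁ h).trans (liftsEquiv _ _ x₁).symm)

theorem Triv.liftsEquiv_glue {T : Scheme.{u}} {i j : t.ι} (x₀ : T ⟶ (t.U i).left) (x₁ : T ⟶ (t.U j).left)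
    (h : x₀ ≫ (t.U i).hom = x₁ ≫ (t.U j).hom)
    (v : Desc.Lifts (copies (t.U i).left (ULift.{u} (Fin (t.n i)))) x₀) (p : T) :
    liftsEquiv _ _ x₁ (t.glue x₀ x₁ h v) p = ULift.up (t.G x₀ x₁ h p (liftsEquiv _ _ x₀ v p).down) := by
  simp only [Triv.glue, Equiv.trans_apply, Equiv.apply_symm_apply]
  rfl

/-- the descent datum -/
def Triv.datum : Desc.SchDDFam (fun i : t.ι => (t.U i).hom) where
  obj i := copies (t.U i).left (ULift.{u} (Fin (t.n i)))
  φ _ _ _ x₀ x₁ h := t.glue x₀ x₁ h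
  φ_natural T T' g i j x₀ x₁ h y₀ y₁ hy₀ hy₁ h' v v' hv' := by
    have hg : (⟨g ≫ (t.glue x₀ x₁ h v).1, by rw [Category.assoc, (t.glue x₀ x₁ h v).2, hy₁]⟩ :
        Desc.Lifts (copies (t.U j).left (ULift.{u} (Fin (t.n j)))) y₁) = t.glue y₀ y₁ h' v' := by
      refine (liftsEquiv _ _ y₁).injective (LocallyConstant.ext fun p => ?_)
      refine (liftsEquiv_natural _ _ g x₁ y₁ (t.glue x₀ x₁ h v) _ rfl p).trans ?_
      refine (t.liftsEquiv_glue x₀ x₁ h v (g.base p)).trans (Eq.trans ?_ (t.liftsEquiv_glue y₀ y₁ h' v' p).symm)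
      exact congrArg ULift.up ((congrArg₂ (fun (e : Fin (t.n i) ≃ Fin (t.n j)) a => e a)
        (t.G_natural x₀ x₁ h g y₀ y₁ hy₀ hy₁ h' p)
        (congrArg ULift.down (liftsEquiv_natural _ _ g x₀ y₀ v v' hv' p))).symm)
    exact (congrArg Subtype.val hg).symm
  φ_self T i x v := by
    refine (liftsEquiv _ _ x).injective (LocallyConstant.ext fun p => ?_)
    refine (t.liftsEquiv_glue x x rfl v p).trans ?_
    exact congrArg ULift.up (congrArg (fun e : Fin (t.n i) ≃ Fin (t.n i) => e (liftsEquiv _ _ x v p).down) (t.G_self x p))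
  φ_comp T i j k x₀ x₁ x₂ h₀₁ h₁₂ v := by
    refine (liftsEquiv _ _ x₂).injective (LocallyConstant.ext fun p => ?_)
    refine (t.liftsEquiv_glue x₁ x₂ h₁₂ _ p).trans (Eq.trans ?_ (t.liftsEquiv_glue x₀ x₂ _ v p).symm)
    refine congrArg ULift.up (Eq.trans (congrArg (t.G x₁ x₂ h₁₂ p) ?_) (t.G_comp x₀ x₁ h₀₁ x₂ h₁₂ p _))
    exact congrArg ULift.down (t.liftsEquiv_glue x₀ x₁ h₀₁ v p)

theorem Triv.datum_effective : t.datum.IsEffective :=
  DescLib.IndQA.isEffective_of_indQA (fun i => (t.U i).hom)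
    (EtTopInvFull.ofArrows_mem _ (fun i => (t.U i).prop) t.covers) t.datum fun i => by
      haveI := isFinite_copies (t.U i).left (ULift.{u} (Fin (t.n i)))
      exact MorLib.IQA.indQA_of_locallyQuasiFinite (copies (t.U i).left (ULift.{u} (Fin (t.n i)))).hom

section solution

variable (Y : CategoryTheory.Over X) (θ : (Desc.toDDFam fun i : t.ι => (t.U i).hom).obj Y ≅ t.datum)

/-- the component of the comparison -/
def Triv.comp (i : t.ι) : pullback (t.U i).hom Y.hom ≅ (copies (t.U i).left (ULift.{u} (Fin (t.n i)))).left where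
  hom := (θ.hom.hom i).left
  inv := (θ.inv.hom i).left
  hom_inv_id := congrArg (fun k => (k.hom i).left) θ.hom_inv_id
  inv_hom_id := congrArg (fun k => (k.hom i).left) θ.inv_hom_id

theorem Triv.comp_hom_w (i : t.ι) :
    (t.comp Y θ i).hom ≫ Limits.Sigma.desc (fun _ => 𝟙 _) = pullback.fst (t.U i).hom Y.hom :=
  CategoryTheory.Over.w (θ.hom.hom i)

theorem Triv.comp_inv_w (i : t.ι) :
    (t.comp Y θ i).inv ≫ pullback.fst (t.U i).hom Y.hom = Limits.Sigma.desc (fun _ => 𝟙 _) :=
  CategoryTheory.Over.w (θ.inv.hom i)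

include θ in
theorem Triv.isFinite_etale_solution : IsFinite Y.hom ∧ AlgebraicGeometry.Etale Y.hom := by
  let q : (∐ fun i => (t.U i).left) ⟶ X := Limits.Sigma.desc fun i => (t.U i).hom
  have hq1 : AlgebraicGeometry.Etale q := IsZariskiLocalAtSource.sigmaDesc fun i => (t.U i).prop
  have hsurj : Surjective q := ⟨fun x => by
    obtain ⟨i, y, hy⟩ := t.covers x
    refine ⟨(Sigma.ι (fun i => (t.U i).left) i).base y, ?_⟩
    rw [← Scheme.Hom.comp_apply, Limits.Sigma.ι_desc]
    exact hy⟩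
  have hQ : (@Surjective ⊓ @Flat ⊓ @LocallyOfFinitePresentation : MorphismProperty Scheme.{u}) q :=
    ⟨⟨hsurj, inferInstance⟩, inferInstance⟩
  have key : ∀ (P : MorphismProperty Scheme.{u}) [P.IsStableUnderBaseChange] [IsZariskiLocalAtTarget P],
      (∀ i, P (copies (t.U i).left (ULift.{u} (Fin (t.n i)))).hom) → P (pullback.fst q Y.hom) := by
    intro P _ _ hP
    rw [IsZariskiLocalAtTarget.iff_of_openCover (P := P) (sigmaOpenCover fun i => (t.U i).left)]
    intro i
    let c := (sigmaOpenCover fun i => (t.U i).left).f i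
    have hc : c ≫ q = (t.U i).hom := Limits.Sigma.ι_desc _ i
    have h1 : P (pullback.fst (t.U i).hom Y.hom) := by
      rw [← t.comp_hom_w Y θ i]
      exact (MorphismProperty.cancel_left_of_respectsIso P _ _).2 (hP i)
    have hl : IsPullback (pullback.snd (pullback.fst q Y.hom) c)
        (pullback.fst (pullback.fst q Y.hom) c ≫ pullback.snd q Y.hom) (t.U i).hom Y.hom := by
      rw [← hc]
      exact ((IsPullback.of_hasPullback (pullback.fst q Y.hom) c).paste_horiz
        (IsPullback.of_hasPullback q Y.hom).flip).flip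
    show P (pullback.snd (pullback.fst q Y.hom) c)
    rw [← hl.isoPullback_hom_fst]
    exact (MorphismProperty.cancel_left_of_respectsIso P _ _).2 h1
  haveI : MorphismProperty.DescendsAlong @IsFinite
      (@Surjective ⊓ @Flat ⊓ @QuasiCompact : MorphismProperty Scheme.{u}) := EtFound.fpqc_isFinite
  exact ⟨MorphismProperty.of_pullback_fst_of_descendsAlong (P := @IsFinite) hQ
      (key @IsFinite fun i => isFinite_copies _ _),
    MorphismProperty.of_pullback_fst_of_descendsAlong (P := @AlgebraicGeometry.Etale) hQ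
      (key @AlgebraicGeometry.Etale fun i => etale_copies _ _)⟩

/-- the sheet of the solution with a given value -/
def Triv.sheet (i : t.ι) (m : Fin (t.n i)) : (t.U i).left ⟶ Y.left :=
  Sigma.ι (fun _ : ULift.{u} (Fin (t.n i)) => (t.U i).left) (ULift.up m) ≫ (t.comp Y θ i).inv ≫
    pullback.snd (t.U i).hom Y.hom

theorem Triv.sheet_hom (i : t.ι) (m : Fin (t.n i)) : t.sheet Y θ i m ≫ Y.hom = (t.U i).hom := by
  rw [Triv.sheet, Category.assoc, Category.assoc, ← pullback.condition, ← Category.assoc (t.comp Y θ i).inv,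
    t.comp_inv_w, ← Category.assoc, Limits.Sigma.ι_desc, Category.id_comp]

variable {Ω : Type u} [Field Ω] [IsAlgClosed Ω] (η : Spec (CommRingCat.of Ω) ⟶ Y.left)

/-- a point of the solution over a point of a member, through the comparison -/
def Triv.pointLift (i : t.ι) (z : Spec (CommRingCat.of Ω) ⟶ (t.U i).left)
    (hz : z ≫ (t.U i).hom = η ≫ Y.hom) : Desc.Lifts (copies (t.U i).left (ULift.{u} (Fin (t.n i)))) z :=
  ⟨pullback.lift z η hz ≫ (t.comp Y θ i).hom, by
    rw [Category.assoc]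
    exact (congrArg (_ ≫ ·) (t.comp_hom_w Y θ i)).trans (pullback.lift_fst _ _ _)⟩

theorem Triv.sheet_eq_iff (i : t.ι) (z : Spec (CommRingCat.of Ω) ⟶ (t.U i).left)
    (hz : z ≫ (t.U i).hom = η ≫ Y.hom) (m : Fin (t.n i)) :
    z ≫ t.sheet Y θ i m = η ↔ copyLift _ _ z (ULift.up m) = t.pointLift Y θ η i z hz := by
  constructor
  · intro hm
    refine Subtype.ext ?_
    show z ≫ Sigma.ι (fun _ : ULift.{u} (Fin (t.n i)) => (t.U i).left) (ULift.up m) =
      pullback.lift z η hz ≫ (t.comp Y θ i).hom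
    rw [← Iso.comp_inv_eq]
    refine pullback.hom_ext ?_ ?_
    · rw [Category.assoc, Category.assoc, t.comp_inv_w, Limits.Sigma.ι_desc, Category.comp_id, pullback.lift_fst]
    · rw [pullback.lift_snd, Category.assoc, Category.assoc]
      exact hm
  · intro he
    have he' : z ≫ Sigma.ι (fun _ : ULift.{u} (Fin (t.n i)) => (t.U i).left) (ULift.up m) =
        pullback.lift z η hz ≫ (t.comp Y θ i).hom := congrArg Subtype.val he
    rw [Triv.sheet, ← Category.assoc, he', Category.assoc, Iso.hom_inv_id_assoc, pullback.lift_snd]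

theorem Triv.exists_sheet (i : t.ι) (z : Spec (CommRingCat.of Ω) ⟶ (t.U i).left)
    (hz : z ≫ (t.U i).hom = η ≫ Y.hom) : ∃ m, z ≫ t.sheet Y θ i m = η := by
  let a := liftsEquiv _ _ z (t.pointLift Y θ η i z hz)
  refine ⟨(a default).down, (t.sheet_eq_iff Y θ η i z hz _).2 ?_⟩
  refine (liftsEquiv _ _ z).injective (LocallyConstant.ext fun p => ?_)
  rw [liftsEquiv_copyLift, Subsingleton.elim p default]

theorem Triv.sheet_compat (i j : t.ι) (z₀ : Spec (CommRingCat.of Ω) ⟶ (t.U i).left)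
    (z₁ : Spec (CommRingCat.of Ω) ⟶ (t.U j).left) (m : Fin (t.n i)) (m' : Fin (t.n j))
    (h₀ : z₀ ≫ t.sheet Y θ i m = η) (h₁ : z₁ ≫ t.sheet Y θ j m' = η) (h : z₀ ≫ (t.U i).hom = z₁ ≫ (t.U j).hom) :
    t.G z₀ z₁ h (default : Spec (CommRingCat.of Ω)) m = m' := by
  have hz₀ : z₀ ≫ (t.U i).hom = η ≫ Y.hom := by rw [← h₀, Category.assoc, t.sheet_hom]
  have hz₁ : z₁ ≫ (t.U j).hom = η ≫ Y.hom := h.symm.trans hz₀
  have e₀ := (t.sheet_eq_iff Y θ η i z₀ hz₀ m).1 h₀
  have e₁ := (t.sheet_eq_iff Y θ η j z₁ hz₁ m').1 h₁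
  let v : Desc.Lifts (((Desc.toDDFam fun i : t.ι => (t.U i).hom).obj Y).obj i) z₀ :=
    ⟨pullback.lift z₀ η hz₀, pullback.lift_fst _ _ _⟩
  have hc : t.glue z₀ z₁ h (t.pointLift Y θ η i z₀ hz₀) = t.pointLift Y θ η j z₁ hz₁ := by
    refine Subtype.ext ((θ.hom.comm z₀ z₁ h v (t.pointLift Y θ η i z₀ hz₀) rfl).trans ?_)
    refine congrArg (· ≫ (t.comp Y θ j).hom) ?_
    refine pullback.hom_ext ?_ ?_
    · simp [Desc.toDDFam, Desc.canonicalDDFam]
    · simp [Desc.toDDFam, Desc.canonicalDDFam, v]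
  have hl := DFunLike.congr_fun (congrArg (liftsEquiv _ _ z₁) hc) (default : Spec (CommRingCat.of Ω))
  rw [t.liftsEquiv_glue, ← e₀, ← e₁, liftsEquiv_copyLift, liftsEquiv_copyLift] at hl
  exact congrArg ULift.down hl

include θ in
theorem Triv.iso_of_solution :
    ∃ (U : X.Etale) (_ : IsFinite U.hom), Nonempty (F ≅ EtDesc.repSh U) := by
  obtain ⟨hfin, het⟩ := t.isFinite_etale_solution Y θ
  let U : X.Etale := Scheme.Etale.mk Y.hom
  let c : ∀ a : Σ i, Fin (t.n i), t.U a.1 ⟶ U := fun a =>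
    MorphismProperty.Over.homMk (t.sheet Y θ a.1 a.2) (t.sheet_hom Y θ a.1 a.2)
  let x : ∀ a : Σ i, Fin (t.n i), F.obj.obj (op (t.U a.1)) := fun a => t.φ a.1 (ULift.up a.2)
  have hpt : ∀ (Ω : Type u) [Field Ω] [IsAlgClosed Ω] (ξ : Spec (CommRingCat.of Ω) ⟶ X),
      ∃ i, Nonempty ((Scheme.pointSmallEtale ξ).fiber.obj (t.U i)) := fun Ω _ _ ξ => by
    obtain ⟨i, p, hp⟩ := t.covers (ξ.base default)
    exact ⟨i, ⟨(Scheme.pointSmallEtaleFiberObjToPreimage_surjective ξ rfl (t.U i) ⟨p, hp⟩).choose⟩⟩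
  have hS := (isSheaf_iff_isSheaf_of_type _ _).1 F.property
  have hmem : Sieve.ofArrows _ c ∈ X.smallEtaleTopology U := by
    rw [EtFound.mem_topology_iff]
    intro y
    obtain ⟨Ω, _, _, η, hη⟩ := exists_algClosed_point_through (T := Y.left) y
    obtain ⟨i, ⟨z⟩⟩ := hpt Ω (η ≫ Y.hom)
    obtain ⟨m, hm⟩ := t.exists_sheet Y θ η i z.left (CategoryTheory.Over.w z)
    refine ⟨t.U i, c ⟨i, m⟩, (z.left : Spec (CommRingCat.of Ω) ⟶ (t.U i).left).base (default : Spec (CommRingCat.of Ω)),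
      Sieve.ofArrows_mk _ c ⟨i, m⟩, ?_⟩
    exact (Scheme.Hom.comp_apply _ _ _).symm.trans
      ((congrArg (fun k : Spec (CommRingCat.of Ω) ⟶ Y.left => k.base (default : Spec (CommRingCat.of Ω))) hm).trans hη)
  have hcompat : Presieve.Arrows.Compatible F.obj c x := by
    rintro ⟨i, m⟩ ⟨j, m'⟩ Z gi gj e
    let a : F.obj.obj (op Z) := F.obj.map gi.op (x ⟨i, m⟩)
    let b : F.obj.obj (op Z) := F.obj.map gj.op (x ⟨j, m'⟩)
    have hmem' : Presheaf.equalizerSieve (F := F.obj) (X := op Z) a b ∈ X.smallEtaleTopology Z := by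
      rw [EtFound.mem_topology_iff]
      intro p
      obtain ⟨Ω, _, _, ξ, z, hz⟩ := EtFound.exists_algClosed_point Z p
      let Φ := Scheme.pointSmallEtale ξ
      have el : gi.left ≫ t.sheet Y θ i m = gj.left ≫ t.sheet Y θ j m' := congrArg (fun k => k.left) e
      let zl : Spec (CommRingCat.of Ω) ⟶ Z.left := z.left
      have hG := t.sheet_compat Y θ (zl ≫ gi.left ≫ t.sheet Y θ i m) i j (zl ≫ gi.left) (zl ≫ gj.left) m m'
        (Category.assoc _ _ _) ((Category.assoc _ _ _).trans (congrArg (zl ≫ ·) el.symm))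
        (by rw [Category.assoc, Category.assoc, MorphismProperty.Over.w gi, MorphismProperty.Over.w gj])
      have hσ := t.G_spec (zl ≫ gi.left) (zl ≫ gj.left)
        (by rw [Category.assoc, Category.assoc, MorphismProperty.Over.w gi, MorphismProperty.Over.w gj])
        (𝟙 _) (Φ.fiber.map gi z) (Φ.fiber.map gj z) (Category.id_comp _).symm (Category.id_comp _).symm
      have hm : t.σ (Φ.fiber.map gi z) (Φ.fiber.map gj z) m = m' := by
        rw [hσ]
        exact hG
      have hgerm := (t.σ_eq_iff _ _ m m').1 hm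
      rw [Triv.germEquiv_apply, Triv.germEquiv_apply] at hgerm
      have hab : Φ.toPresheafFiber Z z F.obj a = Φ.toPresheafFiber Z z F.obj b :=
        (Φ.toPresheafFiber_w_apply gi z F.obj _).trans (hgerm.trans (Φ.toPresheafFiber_w_apply gj z F.obj _).symm)
      obtain ⟨W, g, w, hw, hg⟩ := (Φ.toPresheafFiber_eq_iff' (P := F.obj) Z z a b).1 hab
      refine ⟨W, g, (w.left : Spec (CommRingCat.of Ω) ⟶ W.left).base (default : Spec (CommRingCat.of Ω)), hg, ?_⟩
      rw [← hz, ← hw]
      exact (Scheme.Hom.comp_apply _ _ _).symm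
    exact ((hS.isSeparated _ hmem').ext fun V g hg => hg : a = b)
  obtain ⟨s, hs, -⟩ := (Presieve.isSheafFor_arrows_iff F.obj _).1
    ((Presieve.isSheafFor_iff_generate _).2 (hS _ hmem)) x hcompat
  haveI : IsIso (repMap F (U := U) s) := isIso_repMap F s fun Ω _ _ ξ => by
    obtain ⟨i, ⟨z⟩⟩ := hpt Ω ξ
    let Φ := Scheme.pointSmallEtale ξ
    let f : Fin (t.n i) → Φ.fiber.obj U := fun m => Φ.fiber.map (c ⟨i, m⟩) z
    have hf : Function.Surjective f := fun y => by
      obtain ⟨m, hm⟩ := t.exists_sheet Y θ y.left i z.left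
        ((CategoryTheory.Over.w z).trans (CategoryTheory.Over.w y).symm)
      exact ⟨m, CategoryTheory.Over.OverMorphism.ext hm⟩
    have hb : Function.Bijective ((fun y => Φ.toPresheafFiber U y F.obj s) ∘ f) := by
      refine Eq.mp (congrArg Function.Bijective (funext fun m => ?_)) (t.germEquiv i z).bijective
      refine ((Φ.toPresheafFiber_w_apply (c ⟨i, m⟩) z F.obj s).symm.trans (congrArg _ (hs ⟨i, m⟩))).symm
    have hfi : Function.Bijective f := ⟨Function.Injective.of_comp hb.1, hf⟩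
    exact (Function.Bijective.of_comp_iff _ hfi).1 hb
  exact ⟨U, hfin, ⟨(asIso (repMap F (U := U) s)).symm ≪≫ (repShIso U).symm⟩⟩

end solution

/-- finite locally constant sheaves of sets are representable by finite etale schemes -/
theorem exists_repSh_iso (t : Triv F) : ∃ (U : X.Etale) (_ : IsFinite U.hom), Nonempty (F ≅ EtDesc.repSh U) := by
  obtain ⟨Y, ⟨θ⟩⟩ := t.datum_effective
  exact t.iso_of_solution Y θ

end

end Groth.Agent.FinEtSheaf
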