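import Groth.Prelude.Def_CohProp
import Groth.Prelude.Def_EtOpen
import Groth.Agent.EtFound.Detect
import Groth.Agent.EtFound.LocConst
import Groth.Agent.EtFound.ConstStalk
import Mathlib.AlgebraicGeometry.Sites.Proetale

/-!
# Representable sheaves on the small etale site and maps out of them on stalks
-/

set_option autoImplicit false

universe u

open CategoryTheory CategoryTheory.Limits AlgebraicGeometry Opposite

namespace Groth.Agent.FinEtSheaf

set_option backward.isDefEq.respectTransparency false
set_option backward.isDefEq.respectTransparency.types false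

variable {X : Scheme.{u}}

theorem subcanonical_smallEtale (X : Scheme.{u}) : X.smallEtaleTopology.Subcanonical := by
  have : Scheme.etaleTopology.{u}.Subcanonical :=
    GrothendieckTopology.Subcanonical.of_le
      (Scheme.etaleTopology_le_proetaleTopology.trans Scheme.proetaleTopology_le_fpqcTopology)
  let G := MorphismProperty.Over.forget @AlgebraicGeometry.Etale ⊤ X
  have : RepresentablyFlat G := flat_of_preservesFiniteLimits _
  have : G.LocallyCoverDense (Scheme.etaleTopology.over X) := Scheme.locallyCoverDense_of_le X le_rfl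
  have : G.IsContinuous X.smallEtaleTopology (Scheme.etaleTopology.over X) := by
    rw [Functor.isContinuous_iff_coverPreserving]
    exact G.coverPreserving_restrictedTopology (Scheme.etaleTopology.over X)
  exact GrothendieckTopology.subcanonical_of_full_of_faithful
    (MorphismProperty.Over.forget @AlgebraicGeometry.Etale ⊤ X) _ (Scheme.etaleTopology.over X)

/-- the presheaf represented by an etale scheme -/
noncomputable abbrev repPre (U : X.Etale) : X.Etaleᵒᵖ ⥤ Type (u + 1) :=
  yoneda.obj U ⋙ uliftFunctor.{u + 1, u}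

theorem isSheaf_repPre (U : X.Etale) : Presheaf.IsSheaf X.smallEtaleTopology (repPre U) := by
  have := subcanonical_smallEtale X
  rw [isSheaf_iff_isSheaf_of_type, Presieve.isSheaf_iff_of_nat_equiv (P₂ := yoneda.obj U)
    (fun _ => Equiv.ulift) (fun _ _ _ _ => rfl)]
  exact GrothendieckTopology.Subcanonical.isSheaf_of_isRepresentable _

/-- the tautological section of a representable presheaf -/
noncomputable def taut (U : X.Etale) : (repPre U).obj (op U) := ULift.up.{u + 1} (𝟙 U : U ⟶ U)

/-- the representable presheaf as a sheaf -/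
noncomputable abbrev repSheaf (U : X.Etale) : EtDesc.Sh X := ⟨repPre U, isSheaf_repPre U⟩

/-- `repSh U` is the representable presheaf -/
noncomputable def repShIso (U : X.Etale) : EtDesc.repSh U ≅ repSheaf U :=
  (sheafificationIso (repSheaf U)).symm

/-- the map out of a representable sheaf given by a section -/
noncomputable def repMap (F : EtDesc.Sh X) {U : X.Etale} (s : F.obj.obj (op U)) : repSheaf U ⟶ F :=
  ObjectProperty.homMk
    { app := fun V => TypeCat.ofHom fun f => F.obj.map f.down.op s
      naturality := fun V W g => by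
        ext f
        show F.obj.map (g.unop ≫ f.down).op s = F.obj.map g (F.obj.map f.down.op s)
        rw [op_comp, Functor.map_comp]
        rfl }

variable {Ω : Type u} [Field Ω] [IsSepClosed Ω] (ξ : Spec (CommRingCat.of Ω) ⟶ X)

/-- the stalk of a representable sheaf is the fibre -/
theorem germ_id_bijective (U : X.Etale) :
    Function.Bijective fun y : (Scheme.pointSmallEtale ξ).fiber.obj U =>
      (Scheme.pointSmallEtale ξ).toPresheafFiber U y (repPre U) (taut U) := by
  let Φ := Scheme.pointSmallEtale ξ
  refine ⟨?_, fun p => ?_⟩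
  · let fam : ∀ (V : X.Etale) (v : Φ.fiber.obj V), (repPre U).obj (op V) ⟶ ULift.{u + 1} (Φ.fiber.obj U) :=
      fun V v => TypeCat.ofHom fun f => ULift.up (Φ.fiber.map f.down v)
    have hfam : ∀ ⦃V W : X.Etale⦄ (g : V ⟶ W) (v : Φ.fiber.obj V),
        (repPre U).map g.op ≫ fam V v = fam W (Φ.fiber.map g v) := fun V W g v => by
      ext f
      exact Functor.map_comp_apply Φ.fiber g f.down v
    let d := Φ.presheafFiberDesc fam hfam
    have hd : ∀ y : Φ.fiber.obj U, d (Φ.toPresheafFiber U y (repPre U) (taut U)) = ULift.up y := fun y => by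
      have e : Φ.toPresheafFiber U y (repPre U) ≫ d = fam U y :=
        Φ.toPresheafFiber_presheafFiberDesc fam hfam U y
      have e' := ConcreteCategory.congr_hom e (taut U)
      refine e'.trans ?_
      show ULift.up (Φ.fiber.map (𝟙 U) y) = _
      simp
    intro y y' h
    exact congrArg ULift.down ((hd y).symm.trans ((congrArg d h).trans (hd y')))
  · obtain ⟨V, v, f, rfl⟩ := Φ.toPresheafFiber_jointly_surjective (P := repPre U) p
    refine ⟨Φ.fiber.map f.down v, ?_⟩
    refine (Φ.toPresheafFiber_w_apply f.down v (repPre U) (taut U)).symm.trans (congrArg _ ?_)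
    show ULift.up (f.down ≫ 𝟙 U) = f
    rw [Category.comp_id]
    rfl

/-- a section with bijective germs along all algebraically closed points represents the sheaf -/
theorem isIso_repMap (F : EtDesc.Sh X) {U : X.Etale} (s : F.obj.obj (op U))
    (h : ∀ (Ω : Type u) [Field Ω] [IsAlgClosed Ω] (ξ : Spec (CommRingCat.of Ω) ⟶ X),
      Function.Bijective fun y : (Scheme.pointSmallEtale ξ).fiber.obj U =>
        (Scheme.pointSmallEtale ξ).toPresheafFiber U y F.obj s) : IsIso (repMap F s) := by
  refine EtFound.isIso_of_stalks (repMap F s) fun k _ _ ξ => ?_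
  let Ω := AlgebraicClosure k
  let l : Spec (CommRingCat.of Ω) ⟶ Spec (CommRingCat.of k) := Spec.map (CommRingCat.ofHom (algebraMap k Ω))
  have h1 : Function.Bijective ((Scheme.pointSmallEtale (l ≫ ξ)).presheafFiber.map (repMap F s).hom) := by
    have hb := germ_id_bijective (l ≫ ξ) U
    refine (Function.Bijective.of_comp_iff _ hb).1 ?_
    refine Eq.mp (congrArg Function.Bijective (funext fun y => ?_)) (h Ω (l ≫ ξ))
    refine Eq.trans ?_ ((Scheme.pointSmallEtale (l ≫ ξ)).toPresheafFiber_naturality_apply
      (P := repPre U) (Q := F.obj) (repMap F s).hom U y (taut U)).symm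
    show _ = (Scheme.pointSmallEtale (l ≫ ξ)).toPresheafFiber U y F.obj (F.obj.map (𝟙 (op U)) s)
    rw [FunctorToTypes.map_id_apply]
  have h2 : IsIso ((Scheme.pointSmallEtale (l ≫ ξ)).sheafFiber.map (repMap F s)) := (isIso_iff_bijective _).2 h1
  rw [← NatIso.isIso_map_iff (EtFound.stalkExtIso (Type (u + 1)) ξ l) (repMap F s)] at h2
  exact (isIso_iff_bijective ((Scheme.pointSmallEtale ξ).sheafFiber.map (repMap F s))).1 h2

/-- the unit of the constant sheaf gives a constant family -/
theorem constBy_constSh (W : X.Etale) (M : Type (u + 1)) :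
    ∃ φ : M ⟶ (CohProp.constSh X M).obj.obj (op W), EtFound.ConstBy (CohProp.constSh X M) φ :=
  ⟨(toSheafify X.smallEtaleTopology ((Functor.const X.Etaleᵒᵖ).obj M)).app (op W), fun Ω _ _ ξ z =>
    EtFound.toSheafify_const_germ_bijective ξ (Type (u + 1)) M W z⟩

/-- constant families give constancy in the sense of `IsFinLocConstSet` -/
theorem nonempty_over_iso_constSh {F : EtDesc.Sh X} {W : X.Etale} {M : Type (u + 1)} {φ : M ⟶ F.obj.obj (op W)}
    (h : EtFound.ConstBy F φ) : Nonempty (F.over W ≅ (CohProp.constSh X M).over W) := by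
  obtain ⟨ψ, hψ⟩ := constBy_constSh W M
  obtain ⟨a⟩ := EtFound.nonempty_restr_iso_const h
  obtain ⟨b⟩ := EtFound.nonempty_restr_iso_const hψ
  exact ⟨a ≪≫ b.symm⟩

/-- finite constancy in the sense of `IsFinLocConstSet` gives constant families -/
theorem exists_constBy_fin {F : EtDesc.Sh X} {W : X.Etale} {M : Type (u + 1)} [Finite M]
    (e : F.over W ≅ (CohProp.constSh X M).over W) :
    ∃ (n : ℕ) (φ : ULift.{u + 1} (Fin n) ⟶ F.obj.obj (op W)), EtFound.ConstBy F φ := by
  obtain ⟨ψ, hψ⟩ := constBy_constSh W M
  obtain ⟨b⟩ := EtFound.nonempty_restr_iso_const hψ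
  obtain ⟨n, ⟨q⟩⟩ := Finite.exists_equiv_fin M
  obtain ⟨φ, hφ⟩ := EtFound.exists_constBy (e ≪≫ b)
  refine ⟨n, TypeCat.ofHom (fun i => φ (q.symm i.down)), fun Ω _ _ ξ z => ?_⟩
  exact (hφ Ω ξ z).comp (q.symm.bijective.comp Equiv.ulift.bijective)

end Groth.Agent.FinEtSheaf
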