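import Groth.Agent.EtFound.StalkSet
import Groth.Agent.FinEtSheaf.Rep
import Groth.Agent.EtFound.PushLocConst

/-!
# Finite etale morphisms give finite locally constant sheaves of sets
-/

set_option autoImplicit false

universe u

open CategoryTheory CategoryTheory.Limits AlgebraicGeometry Opposite

namespace Groth.Agent.FinEtSheaf

set_option backward.isDefEq.respectTransparency false
set_option backward.isDefEq.respectTransparency.types false

variable {X Y : Scheme.{u}} (f : X ⟶ Y) [IsFinite f] [AlgebraicGeometry.Etale f]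

/-- near a geometric point a finite etale morphism has finitely many sections enumerating all geometric points -/
theorem exists_sections_bijective {Ω : Type u} [Field Ω] [IsAlgClosed Ω] (η : Spec (CommRingCat.of Ω) ⟶ Y) :
    ∃ (W : Y.Etale) (_ : (Scheme.pointSmallEtale η).fiber.obj W) (n : ℕ) (σ : Fin n → (W.left ⟶ X)),
      (∀ k, σ k ≫ f = W.hom) ∧
      ∀ (Ω' : Type u) [Field Ω'] [IsAlgClosed Ω'] (l : Spec (CommRingCat.of Ω') ⟶ W.left)
        (ξ : Spec (CommRingCat.of Ω') ⟶ X), ξ ≫ f = l ≫ W.hom → ∃! k, l ≫ σ k = ξ := by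
  let T : Y.Etale := Scheme.Etale.mk (𝟙 Y)
  let t : (Scheme.pointSmallEtale η).fiber.obj T := CategoryTheory.Over.homMk η (Category.comp_id η)
  obtain ⟨W, w, b, Q, hd, hc, -, hiso⟩ := EtFound.exists_iso_stage f η (fun _ => T) (fun _ => t) (fun _ => ⊤)
    fun _ => trivial
  haveI := EtFound.finite_points f η
  obtain ⟨n, ⟨e⟩⟩ := Finite.exists_equiv_fin {ξ : Spec (CommRingCat.of Ω) ⟶ X // ξ ≫ f = η}
  let s : ∀ a, W.left ⟶ ((EtCoh.bc f).obj W).left := fun a => (@inv _ _ _ _ _ (hiso a)) ≫ (Q a).ι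
  have hs1 : ∀ a, s a ≫ pullback.fst W.hom f = 𝟙 _ := fun a => by
    have := hiso a
    exact (Category.assoc _ _ _).trans (IsIso.inv_hom_id ((Q a).ι ≫ pullback.fst W.hom f))
  refine ⟨W, w, n, fun k => s (e.symm k) ≫ pullback.snd W.hom f, fun k => ?_, fun Ω' _ _ l ξ hξ => ?_⟩
  · rw [Category.assoc, ← pullback.condition, ← Category.assoc]
    exact (congrArg (· ≫ W.hom) (hs1 _)).trans (Category.id_comp _)
  let p : Spec (CommRingCat.of Ω') ⟶ ((EtCoh.bc f).obj W).left := pullback.lift l ξ hξ.symm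
  obtain ⟨a, ha⟩ := TopologicalSpace.Opens.mem_iSup.1
    (hc.ge (TopologicalSpace.Opens.mem_top (p.base (default : Spec (CommRingCat.of Ω')))))
  obtain ⟨r, hr⟩ : ∃ r, r ≫ (Q a).ι = p := ⟨IsOpenImmersion.lift (Q a).ι p (by
    rintro _ ⟨x, rfl⟩
    rw [Scheme.Opens.range_ι, Subsingleton.elim x default]
    exact ha), IsOpenImmersion.lift_fac _ _ _⟩
  have hp : p = l ≫ s a := by
    have h1 : r ≫ ((Q a).ι ≫ pullback.fst W.hom f) = l := by
      rw [← Category.assoc, hr]
      exact pullback.lift_fst _ _ _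
    have := hiso a
    have h2 : r = l ≫ inv ((Q a).ι ≫ pullback.fst W.hom f) := (IsIso.eq_comp_inv _).2 h1
    rw [← hr, h2]
    exact Category.assoc _ _ _
  refine ⟨e a, ?_, fun k hk => ?_⟩
  · show l ≫ s (e.symm (e a)) ≫ pullback.snd W.hom f = ξ
    rw [e.symm_apply_apply, ← Category.assoc, ← hp]
    exact pullback.lift_snd _ _ _
  · refine e.symm.injective ?_
    rw [e.symm_apply_apply]
    by_contra hne
    have hk' : l ≫ s (e.symm k) = p := by
      refine pullback.hom_ext ?_ ?_
      · rw [Category.assoc, hs1, Category.comp_id]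
        exact (pullback.lift_fst _ _ _).symm
      · rw [Category.assoc]
        exact hk.trans (pullback.lift_snd _ _ _).symm
    have hmem : p.base (default : Spec (CommRingCat.of Ω')) ∈ Q (e.symm k) := by
      rw [← hk', Scheme.Hom.comp_apply]
      show ((@inv _ _ _ _ _ (hiso (e.symm k))) ≫ (Q (e.symm k)).ι).base _ ∈ Q (e.symm k)
      rw [Scheme.Hom.comp_apply]
      exact Subtype.coe_prop _
    exact Set.disjoint_left.1 (TopologicalSpace.Opens.coe_disjoint.2 (hd hne)) hmem ha

/-- the representable sheaf of a finite etale scheme is finite locally constant -/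
theorem isFinLocConstSet_repSh : CohProp.IsFinLocConstSet (EtDesc.repSh (Scheme.Etale.mk f)) := by
  have key : ∀ y : Y, ∃ (W : Y.Etale) (M : Type (u + 1)), y ∈ Set.range W.hom.base ∧ Finite M ∧
      Nonempty ((EtDesc.repSh (Scheme.Etale.mk f)).over W ≅ (CohProp.constSh Y M).over W) := by
    intro y
    obtain ⟨Ω, _, _, η, hη⟩ := EtFound.exists_geomPoint y
    obtain ⟨W, w, n, σ, hσ, huniq⟩ := exists_sections_bijective f η
    refine ⟨W, ULift.{u + 1} (Fin n), ⟨(w.left : Spec (CommRingCat.of Ω) ⟶ W.left).base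
      (default : Spec (CommRingCat.of Ω)), ?_⟩, inferInstance, ?_⟩
    · refine (Scheme.Hom.comp_apply _ _ _).symm.trans ?_
      exact (congrArg (fun k : Spec (CommRingCat.of Ω) ⟶ Y => k.base (default : Spec (CommRingCat.of Ω)))
        (CategoryTheory.Over.w w)).trans hη
    let U : Y.Etale := Scheme.Etale.mk f
    let g : Fin n → (W ⟶ U) := fun k => MorphismProperty.Over.homMk (σ k) (hσ k)
    let φ : ULift.{u + 1} (Fin n) ⟶ (repPre U).obj (op W) := TypeCat.ofHom fun k => ULift.up.{u + 1} (g k.down)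
    have hφ : EtFound.ConstBy (repSheaf U) φ := fun Ω' _ _ ζ z => by
      let Φ := Scheme.pointSmallEtale ζ
      have hb : Function.Bijective fun k : ULift.{u + 1} (Fin n) => Φ.fiber.map (g k.down) z := by
        refine ⟨fun k k' h => ?_, fun q => ?_⟩
        · have hq : ((z.left : Spec (CommRingCat.of Ω') ⟶ W.left) ≫ σ k.down) ≫ f =
              (z.left : Spec (CommRingCat.of Ω') ⟶ W.left) ≫ W.hom := by rw [Category.assoc, hσ]
          exact ULift.ext _ _ ((huniq Ω' z.left _ hq).unique rfl (congr(($h).left)).symm)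
        · have hq : (q.left : Spec (CommRingCat.of Ω') ⟶ X) ≫ f = (z.left : Spec (CommRingCat.of Ω') ⟶ W.left) ≫ W.hom :=
            (CategoryTheory.Over.w q).trans (CategoryTheory.Over.w z).symm
          obtain ⟨k, hk, -⟩ := huniq Ω' z.left q.left hq
          exact ⟨ULift.up k, CategoryTheory.Over.OverMorphism.ext hk⟩
      refine Eq.mp (congrArg Function.Bijective (funext fun k => ?_)) ((germ_id_bijective ζ U).comp hb)
      refine (Φ.toPresheafFiber_w_apply (g k.down) z (repPre U) (taut U)).symm.trans ?_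
      refine (congrArg (Φ.toPresheafFiber W z (repPre U)) ?_).trans (ConcreteCategory.comp_apply φ _ k).symm
      show ULift.up (g k.down ≫ 𝟙 U) = ULift.up (g k.down)
      rw [Category.comp_id]
    obtain ⟨e⟩ := nonempty_over_iso_constSh hφ
    exact ⟨(Y.smallEtaleTopology.overPullback (Type (u + 1)) W).mapIso (repShIso U) ≪≫ e⟩
  choose W M hy hM hW using key
  exact ⟨Y, W, fun y => ⟨y, hy y⟩, fun y => ⟨M y, hM y, hW y⟩⟩

end Groth.Agent.FinEtSheaf
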