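import Groth.Agent.EtFound.StalkSet
import Groth.Agent.FinEtSheaf.Rep
import Groth.Agent.EtFound.Germ
import Mathlib.Topology.LocallyConstant.Algebra

/-!
# Transition maps of a finite locally constant sheaf
-/

set_option autoImplicit false

universe u

open CategoryTheory CategoryTheory.Limits AlgebraicGeometry Opposite

namespace Groth.Agent.FinEtSheaf

noncomputable section

set_option backward.isDefEq.respectTransparency false
set_option backward.isDefEq.respectTransparency.types false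

variable {X : Scheme.{u}}

/-- a trivialization of a finite locally constant sheaf of sets -/
structure Triv (F : EtDesc.Sh X) where
  /-- index type of the covering -/
  ι : Type u
  /-- members of the covering -/
  U : ι → X.Etale
  covers : EtCoh.Covers U
  /-- number of values -/
  n : ι → ℕ
  /-- the sections -/
  φ : ∀ i, ULift.{u + 1} (Fin (n i)) ⟶ F.obj.obj (op (U i))
  hφ : ∀ i, EtFound.ConstBy F (φ i)

theorem exists_triv {F : EtDesc.Sh X} (hF : CohProp.IsFinLocConstSet F) : Nonempty (Triv F) := by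
  obtain ⟨ι, U, hU, h⟩ := hF
  choose M hM he using h
  choose n φ hφ using fun i => have := hM i; exists_constBy_fin (he i).some
  exact ⟨⟨ι, U, hU, n, φ, hφ⟩⟩

variable {F : EtDesc.Sh X} (t : Triv F)

/-- the values as stalk elements -/
def Triv.germEquiv (i : t.ι) {Ω : Type u} [Field Ω] [IsAlgClosed Ω] {ξ : Spec (CommRingCat.of Ω) ⟶ X}
    (z : (Scheme.pointSmallEtale ξ).fiber.obj (t.U i)) :
    Fin (t.n i) ≃ (Scheme.pointSmallEtale ξ).presheafFiber.obj F.obj :=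
  Equiv.ulift.symm.trans (Equiv.ofBijective _ (t.hφ i Ω ξ z))

theorem Triv.germEquiv_apply (i : t.ι) {Ω : Type u} [Field Ω] [IsAlgClosed Ω] {ξ : Spec (CommRingCat.of Ω) ⟶ X}
    (z : (Scheme.pointSmallEtale ξ).fiber.obj (t.U i)) (m : Fin (t.n i)) :
    t.germEquiv i z m = (Scheme.pointSmallEtale ξ).toPresheafFiber (t.U i) z F.obj (t.φ i (ULift.up m)) :=
  rfl

/-- the transition bijection at a geometric point -/
def Triv.σ {i j : t.ι} {Ω : Type u} [Field Ω] [IsAlgClosed Ω] {ξ : Spec (CommRingCat.of Ω) ⟶ X}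
    (z₀ : (Scheme.pointSmallEtale ξ).fiber.obj (t.U i)) (z₁ : (Scheme.pointSmallEtale ξ).fiber.obj (t.U j)) :
    Fin (t.n i) ≃ Fin (t.n j) :=
  (t.germEquiv i z₀).trans (t.germEquiv j z₁).symm

theorem Triv.σ_eq_iff {i j : t.ι} {Ω : Type u} [Field Ω] [IsAlgClosed Ω] {ξ : Spec (CommRingCat.of Ω) ⟶ X}
    (z₀ : (Scheme.pointSmallEtale ξ).fiber.obj (t.U i)) (z₁ : (Scheme.pointSmallEtale ξ).fiber.obj (t.U j))
    (m : Fin (t.n i)) (m' : Fin (t.n j)) :
    t.σ z₀ z₁ m = m' ↔ t.germEquiv i z₀ m = t.germEquiv j z₁ m' := by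
  show (t.germEquiv j z₁).symm (t.germEquiv i z₀ m) = m' ↔ _
  exact Equiv.symm_apply_eq _

/-- the product of two members of the covering -/
abbrev Triv.P (i j : t.ι) : X.Etale :=
  haveI : AlgebraicGeometry.Etale (t.U i).hom := (t.U i).prop
  haveI : AlgebraicGeometry.Etale (t.U j).hom := (t.U j).prop
  haveI : AlgebraicGeometry.Etale (pullback.fst (t.U i).hom (t.U j).hom ≫ (t.U i).hom) :=
    MorphismProperty.comp_mem @AlgebraicGeometry.Etale _ _
      (MorphismProperty.pullback_fst _ _ (t.U j).prop) (t.U i).prop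
  Scheme.Etale.mk (pullback.fst (t.U i).hom (t.U j).hom ≫ (t.U i).hom)

/-- the first projection -/
abbrev Triv.p₀ (i j : t.ι) : t.P i j ⟶ t.U i :=
  MorphismProperty.Over.homMk (pullback.fst (t.U i).hom (t.U j).hom) rfl

/-- the second projection -/
abbrev Triv.p₁ (i j : t.ι) : t.P i j ⟶ t.U j :=
  MorphismProperty.Over.homMk (pullback.snd (t.U i).hom (t.U j).hom) pullback.condition.symm

/-- transition bijections are constant near a geometric point of the product -/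
theorem Triv.agree_open {i j : t.ι} {Ω : Type u} [Field Ω] [IsAlgClosed Ω] {ξ : Spec (CommRingCat.of Ω) ⟶ X}
    (z : (Scheme.pointSmallEtale ξ).fiber.obj (t.P i j)) (m : Fin (t.n i)) :
    ∃ O : (t.P i j).left.Opens,
      (z.left : Spec (CommRingCat.of Ω) ⟶ (t.P i j).left).base (default : Spec (CommRingCat.of Ω)) ∈ O ∧
      ∀ (Ω' : Type u) [Field Ω'] [IsAlgClosed Ω'] (ξ' : Spec (CommRingCat.of Ω') ⟶ X)
        (z' : (Scheme.pointSmallEtale ξ').fiber.obj (t.P i j)),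
        (z'.left : Spec (CommRingCat.of Ω') ⟶ (t.P i j).left).base (default : Spec (CommRingCat.of Ω')) ∈ O →
        t.σ ((Scheme.pointSmallEtale ξ').fiber.map (t.p₀ i j) z') ((Scheme.pointSmallEtale ξ').fiber.map (t.p₁ i j) z') m =
          t.σ ((Scheme.pointSmallEtale ξ).fiber.map (t.p₀ i j) z) ((Scheme.pointSmallEtale ξ).fiber.map (t.p₁ i j) z) m := by
  let Φ := Scheme.pointSmallEtale ξ
  let m' := t.σ (Φ.fiber.map (t.p₀ i j) z) (Φ.fiber.map (t.p₁ i j) z) m
  have h := (t.σ_eq_iff _ _ m m').1 rfl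
  rw [Triv.germEquiv_apply, Triv.germEquiv_apply] at h
  have h' : Φ.toPresheafFiber (t.P i j) z F.obj (F.obj.map (t.p₀ i j).op (t.φ i (ULift.up m))) =
      Φ.toPresheafFiber (t.P i j) z F.obj (F.obj.map (t.p₁ i j).op (t.φ j (ULift.up m'))) :=
    (Φ.toPresheafFiber_w_apply (t.p₀ i j) z F.obj _).trans
      (h.trans (Φ.toPresheafFiber_w_apply (t.p₁ i j) z F.obj _).symm)
  obtain ⟨W, g, w, hw, hg⟩ := (Φ.toPresheafFiber_eq_iff' (t.P i j) z _ _).1 h'
  have := EtFound.etale_left g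
  refine ⟨⟨Set.range g.left.base, g.left.isOpenMap.isOpen_range⟩,
    ⟨(w.left : Spec (CommRingCat.of Ω) ⟶ W.left).base (default : Spec (CommRingCat.of Ω)), ?_⟩, ?_⟩
  · rw [← hw]
    exact (Scheme.Hom.comp_apply _ _ _).symm
  · rintro Ω' _ _ ξ' z' ⟨v, hv⟩
    obtain ⟨w', hw', -⟩ := EtFound.exists_lift_point g z' v hv
    refine (t.σ_eq_iff _ _ m m').2 ?_
    rw [Triv.germEquiv_apply, Triv.germEquiv_apply]
    subst hw'
    let Φ' := Scheme.pointSmallEtale ξ'
    refine (Φ'.toPresheafFiber_w_apply (t.p₀ i j) _ F.obj _).symm.trans (Eq.trans ?_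
      (Φ'.toPresheafFiber_w_apply (t.p₁ i j) _ F.obj _))
    exact (Φ'.toPresheafFiber_w_apply g w' F.obj _).symm.trans
      ((congrArg _ hg).trans (Φ'.toPresheafFiber_w_apply g w' F.obj _))

theorem Triv.exists_trans (i j : t.ι) :
    ∃ g : LocallyConstant (t.P i j).left (Fin (t.n i) ≃ Fin (t.n j)),
      ∀ (Ω : Type u) [Field Ω] [IsAlgClosed Ω] (ξ : Spec (CommRingCat.of Ω) ⟶ X)
        (z : (Scheme.pointSmallEtale ξ).fiber.obj (t.P i j)),
        t.σ ((Scheme.pointSmallEtale ξ).fiber.map (t.p₀ i j) z) ((Scheme.pointSmallEtale ξ).fiber.map (t.p₁ i j) z) =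
          g ((z.left : Spec (CommRingCat.of Ω) ⟶ (t.P i j).left).base (default : Spec (CommRingCat.of Ω))) := by
  choose Ω iF iA ξ z hz using fun p => EtFound.exists_algClosed_point (t.P i j) p
  let g : (t.P i j).left → (Fin (t.n i) ≃ Fin (t.n j)) := fun p =>
    t.σ ((Scheme.pointSmallEtale (ξ p)).fiber.map (t.p₀ i j) (z p))
      ((Scheme.pointSmallEtale (ξ p)).fiber.map (t.p₁ i j) (z p))
  have spec : ∀ (Ω : Type u) [Field Ω] [IsAlgClosed Ω] (ξ : Spec (CommRingCat.of Ω) ⟶ X)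
      (z : (Scheme.pointSmallEtale ξ).fiber.obj (t.P i j)),
      t.σ ((Scheme.pointSmallEtale ξ).fiber.map (t.p₀ i j) z) ((Scheme.pointSmallEtale ξ).fiber.map (t.p₁ i j) z) =
        g ((z.left : Spec (CommRingCat.of Ω) ⟶ (t.P i j).left).base (default : Spec (CommRingCat.of Ω))) := by
    intro Ω' _ _ ξ' z'
    refine Equiv.ext fun m => ?_
    obtain ⟨O, hO, h⟩ := t.agree_open (z ((z'.left : Spec (CommRingCat.of Ω') ⟶ (t.P i j).left).base (default : Spec (CommRingCat.of Ω')))) m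
    rw [hz] at hO
    exact h Ω' ξ' z' hO
  refine ⟨⟨g, IsLocallyConstant.iff_exists_open _ |>.2 fun p => ?_⟩, spec⟩
  choose O hO h using fun m => t.agree_open (z p) m
  refine ⟨⋂ m, (O m : Set (t.P i j).left), isOpen_iInter_of_finite fun m => (O m).isOpen,
    Set.mem_iInter.2 fun m => Set.mem_of_eq_of_mem (hz p).symm (hO m), fun q hq => ?_⟩
  refine Equiv.ext fun m => h m (Ω q) (ξ q) (z q) ?_
  rw [hz]
  exact Set.mem_iInter.1 hq m

variable {T : Scheme.{u}} {i j k : t.ι} (x₀ : T ⟶ (t.U i).left) (x₁ : T ⟶ (t.U j).left)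
  (h : x₀ ≫ (t.U i).hom = x₁ ≫ (t.U j).hom)

/-- the transition map on a scheme mapping to two members -/
def Triv.G : LocallyConstant T (Fin (t.n i) ≃ Fin (t.n j)) :=
  (t.exists_trans i j).choose.comap ⟨(pullback.lift x₀ x₁ h).base, (pullback.lift x₀ x₁ h).continuous⟩

theorem Triv.G_spec {Ω : Type u} [Field Ω] [IsAlgClosed Ω] (η : Spec (CommRingCat.of Ω) ⟶ T)
    {ξ : Spec (CommRingCat.of Ω) ⟶ X}
    (z₀ : (Scheme.pointSmallEtale ξ).fiber.obj (t.U i)) (z₁ : (Scheme.pointSmallEtale ξ).fiber.obj (t.U j))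
    (h₀ : (z₀.left : Spec (CommRingCat.of Ω) ⟶ (t.U i).left) = η ≫ x₀)
    (h₁ : (z₁.left : Spec (CommRingCat.of Ω) ⟶ (t.U j).left) = η ≫ x₁) :
    t.σ z₀ z₁ = t.G x₀ x₁ h (η.base (default : Spec (CommRingCat.of Ω))) := by
  let z : (Scheme.pointSmallEtale ξ).fiber.obj (t.P i j) :=
    CategoryTheory.Over.homMk (η ≫ pullback.lift x₀ x₁ h) (by
      show (η ≫ pullback.lift x₀ x₁ h) ≫ pullback.fst _ _ ≫ (t.U i).hom = ξ
      rw [Category.assoc, pullback.lift_fst_assoc, ← Category.assoc, ← h₀]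
      exact CategoryTheory.Over.w z₀)
  have e₀ : (Scheme.pointSmallEtale ξ).fiber.map (t.p₀ i j) z = z₀ :=
    CategoryTheory.Over.OverMorphism.ext (by
      show (η ≫ pullback.lift x₀ x₁ h) ≫ pullback.fst _ _ = _
      rw [Category.assoc, pullback.lift_fst, h₀])
  have e₁ : (Scheme.pointSmallEtale ξ).fiber.map (t.p₁ i j) z = z₁ :=
    CategoryTheory.Over.OverMorphism.ext (by
      show (η ≫ pullback.lift x₀ x₁ h) ≫ pullback.snd _ _ = _
      rw [Category.assoc, pullback.lift_snd, h₁])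
  have := (t.exists_trans i j).choose_spec Ω ξ z
  rw [e₀, e₁] at this
  refine this.trans (congrArg _ ?_)
  exact Scheme.Hom.comp_apply _ _ _

theorem exists_algClosed_point_through (p : T) :
    ∃ (Ω : Type u) (_ : Field Ω) (_ : IsAlgClosed Ω) (η : Spec (CommRingCat.of Ω) ⟶ T),
      η.base (default : Spec (CommRingCat.of Ω)) = p :=
  EtFound.exists_geomPoint p

theorem Triv.G_self {i : t.ι} (x : T ⟶ (t.U i).left) (p : T) : t.G x x rfl p = Equiv.refl _ := by
  obtain ⟨Ω, _, _, η, rfl⟩ := exists_algClosed_point_through p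
  let z : (Scheme.pointSmallEtale ((η ≫ x) ≫ (t.U i).hom)).fiber.obj (t.U i) := CategoryTheory.Over.homMk (η ≫ x) rfl
  rw [← t.G_spec x x rfl η z z rfl rfl]
  exact Equiv.self_trans_symm _

theorem Triv.G_comp (x₂ : T ⟶ (t.U k).left) (h' : x₁ ≫ (t.U j).hom = x₂ ≫ (t.U k).hom) (p : T)
    (m : Fin (t.n i)) : t.G x₁ x₂ h' p (t.G x₀ x₁ h p m) = t.G x₀ x₂ (h.trans h') p m := by
  obtain ⟨Ω, _, _, η, rfl⟩ := exists_algClosed_point_through p
  let ξ := (η ≫ x₀) ≫ (t.U i).hom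
  let z₀ : (Scheme.pointSmallEtale ξ).fiber.obj (t.U i) := CategoryTheory.Over.homMk (η ≫ x₀) rfl
  let z₁ : (Scheme.pointSmallEtale ξ).fiber.obj (t.U j) := CategoryTheory.Over.homMk (η ≫ x₁) (by
    show (η ≫ x₁) ≫ (t.U j).hom = (η ≫ x₀) ≫ (t.U i).hom
    rw [Category.assoc, Category.assoc, h])
  let z₂ : (Scheme.pointSmallEtale ξ).fiber.obj (t.U k) := CategoryTheory.Over.homMk (η ≫ x₂) (by
    show (η ≫ x₂) ≫ (t.U k).hom = (η ≫ x₀) ≫ (t.U i).hom
    rw [Category.assoc, Category.assoc, h, h'])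
  rw [← t.G_spec x₀ x₁ h η z₀ z₁ rfl rfl, ← t.G_spec x₁ x₂ h' η z₁ z₂ rfl rfl,
    ← t.G_spec x₀ x₂ (h.trans h') η z₀ z₂ rfl rfl]
  simp [Triv.σ]

theorem Triv.G_natural {T' : Scheme.{u}} (g : T' ⟶ T) (y₀ : T' ⟶ (t.U i).left) (y₁ : T' ⟶ (t.U j).left)
    (hy₀ : g ≫ x₀ = y₀) (hy₁ : g ≫ x₁ = y₁) (h' : y₀ ≫ (t.U i).hom = y₁ ≫ (t.U j).hom) (p : T') :
    t.G y₀ y₁ h' p = t.G x₀ x₁ h (g.base p) := by
  subst hy₀ hy₁
  show (t.exists_trans i j).choose _ = (t.exists_trans i j).choose _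
  refine congrArg _ ?_
  show (pullback.lift (g ≫ x₀) (g ≫ x₁) h').base p = (pullback.lift x₀ x₁ h).base (g.base p)
  rw [← Scheme.Hom.comp_apply]
  exact congrArg (fun q : T' ⟶ _ => q.base p) (pullback.hom_ext (by simp) (by simp))

end

end Groth.Agent.FinEtSheaf
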